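import Cfsg.Agent.Lib.Helper19.KAlt.Defs
import Cfsg.Agent.Lib.Helper75.LW.All
import Cfsg.Agent.Lib.Helper34.KAlt.Faith
import Cfsg.Agent.Lib.Helper10.KAlt.Idx
import Cfsg.Agent.Lib.Helper10.KAlt.Orb

/-!
# KALT project (S0747), package [SHBIG]

The two sporadic sharply `k`-transitive cases `(k, n) = (4, 11), (5, 12)`: some `(k+1)`-set has a
set stabiliser of order `> k!`, which therefore induces at least the alternating group.
Uses `pkgFaith` (`Faith.lean`), and `pkgOrb'` (the corrected form of [ORB], with `j ≤ card α`)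
and `pkgIdx` of `Cfsg.Agent.Lib.Helper10.KAlt`.
-/

set_option autoImplicit false

namespace Cfsg.Agent.Lib.Helper34.KAlt

open Cfsg.Agent.Lib.Helper75.LW Cfsg.Agent.Lib.Helper19.KAlt

universe u

theorem pkgShBig : PkgShBig.{u} := by
  intro α _ _ G k hT htriv hcase
  have hkn : k ≤ Fintype.card α := by
    rcases hcase with ⟨rfl, h⟩ | ⟨rfl, h⟩ <;> omega
  have hkn' : k ≤ (Finset.univ : Finset α).card := by
    rw [Finset.card_univ]
    exact hkn
  obtain ⟨s, -, hs⟩ := Finset.exists_subset_card_eq (n := k) (s := (Finset.univ : Finset α)) hkn'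
  have hPS : Nat.card (PS G s) = 1 := by
    have hbot : PS G s = ⊥ := by
      rw [eq_bot_iff]
      intro g hg
      rw [Subgroup.mem_bot]
      exact htriv s hs g (mem_PS.mp hg).1 (mem_PS.mp hg).2
    rw [hbot]
    exact Subgroup.card_bot
  have hcard := allCntT G k s hs hT
  rw [hPS, mul_one] at hcard
  have hex : ∃ Δ : Finset α, Δ.card = k + 1 ∧ k.factorial < Nat.card (SS G Δ) := by
    by_contra hcon
    push Not at hcon
    have hlt : (Fintype.card α).choose (k + 1) * k.factorial < 2 * Nat.card G := by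
      rcases hcase with ⟨rfl, h⟩ | ⟨rfl, h⟩
      · rw [hcard, h]; decide
      · rw [hcard, h]; decide
    have hk1 : k + 1 ≤ Fintype.card α := by
      rcases hcase with ⟨rfl, h⟩ | ⟨rfl, h⟩ <;> omega
    have h1 := Cfsg.Agent.Lib.Helper10.KAlt.pkgOrb' G (k + 1) k.factorial hk1 hcon hlt
    rcases hcase with ⟨rfl, h⟩ | ⟨rfl, h⟩
    · rw [hcard, h] at h1
      revert h1
      decide
    · rw [hcard, h] at h1
      revert h1
      decide
  obtain ⟨Δ, hΔ, hbig⟩ := hex
  obtain ⟨T, hTcard, hTind⟩ := pkgFaith G k Δ htriv (by omega)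
  have halt : alternatingGroup ↥Δ ≤ T := by
    apply Cfsg.Agent.Lib.Helper10.KAlt.pkgIdx T
    · rw [Fintype.card_coe, hΔ]
      rcases hcase with ⟨rfl, h⟩ | ⟨rfl, h⟩ <;> omega
    · rw [Fintype.card_coe, hΔ, hTcard, Nat.factorial_succ]
      exact Nat.mul_lt_mul_of_pos_left hbig (by omega)
  exact ⟨Δ, hΔ, fun σ hσ => hTind σ (halt hσ)⟩

end Cfsg.Agent.Lib.Helper34.KAlt
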